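import Cfsg.Agent.L0.CosetChain

/-! Generated coset table certificate. -/

set_option autoImplicit false
set_option maxRecDepth 100000

namespace Cfsg.Agent.L0.M22Pc5

noncomputable def t0 : BT := .node (.node (.leaf (nat_lit 0x24bc8cd0048d5033b882331118f080000001047239082200448c354398c54ac1000000021b0930239482221bc86d21a51d040000000c455318010003c82221b08e7458100000000039c82331c00d003082221a10f04000000000b00288e900254a7002082242010000000208400722900060014004000cb20000000000021004401100440110044010000)) (.leaf (nat_lit 0x454087320ada346950e9479d22b2800000015ed20acc54494de73394e233890a0000000584882833349ec27b4d2f36aa241c00000019c946bcdec209cd4945a910f6746))) (.leaf (nat_lit 0x25d0825341896826a8ce934b5a4100000000d0833b09d1209504625489316744000000020918ee243952a24209275331b20c0000000a1323c90a82090dd24118950674300000007118a11243cdd2209184523b9960c00000008230050013752e0eb782d62b6c82000000066a8929208c94e46409912749ab0800000009f1330cd0a208c97124410466742))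

noncomputable def tree : BT := t0

noncomputable def row : ℕ → ℕ := rowOf tree (nat_lit 3) (nat_lit 7) (nat_lit 142) (nat_lit 0x3fffffffffffffffffffffffffffffffffff)

noncomputable def cols : List Col := [⟨nat_lit 16, nat_lit 1, [([nat_lit 16], nat_lit 0), ([nat_lit 30, nat_lit 16, nat_lit 30], nat_lit 0), ([nat_lit 58, nat_lit 16, nat_lit 58], nat_lit 0), ([nat_lit 30, nat_lit 44, nat_lit 100, nat_lit 86, nat_lit 100, nat_lit 72, nat_lit 100], nat_lit 0), ([nat_lit 44, nat_lit 16, nat_lit 44], nat_lit 0), ([nat_lit 44, nat_lit 72, nat_lit 30, nat_lit 86], nat_lit 0), ([nat_lit 86, nat_lit 30, nat_lit 58, nat_lit 72], nat_lit 0)]⟩,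
  ⟨nat_lit 30, nat_lit 1, [([nat_lit 30], nat_lit 0), ([nat_lit 86, nat_lit 16, nat_lit 44, nat_lit 72], nat_lit 0), ([nat_lit 58, nat_lit 30, nat_lit 58], nat_lit 0), ([nat_lit 16, nat_lit 30, nat_lit 16], nat_lit 0), ([nat_lit 44, nat_lit 30, nat_lit 44], nat_lit 0), ([nat_lit 44, nat_lit 100, nat_lit 58, nat_lit 100, nat_lit 44, nat_lit 86, nat_lit 100], nat_lit 0)]⟩,
  ⟨nat_lit 44, nat_lit 1, [([nat_lit 44], nat_lit 0), ([nat_lit 16, nat_lit 44, nat_lit 16], nat_lit 0), ([nat_lit 58, nat_lit 44, nat_lit 58], nat_lit 0), ([nat_lit 72, nat_lit 30, nat_lit 86, nat_lit 16], nat_lit 0), ([nat_lit 72, nat_lit 16, nat_lit 58, nat_lit 86], nat_lit 0), ([nat_lit 86, nat_lit 58, nat_lit 72, nat_lit 30], nat_lit 0), ([nat_lit 100, nat_lit 44, nat_lit 100, nat_lit 44, nat_lit 100], nat_lit 0)]⟩,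
  ⟨nat_lit 58, nat_lit 1, [([nat_lit 58], nat_lit 0), ([nat_lit 16, nat_lit 58, nat_lit 16], nat_lit 0), ([nat_lit 86, nat_lit 44, nat_lit 72, nat_lit 16], nat_lit 0), ([nat_lit 72, nat_lit 16, nat_lit 86, nat_lit 30], nat_lit 0), ([nat_lit 72, nat_lit 30, nat_lit 44, nat_lit 86], nat_lit 0), ([nat_lit 100, nat_lit 44, nat_lit 86, nat_lit 100, nat_lit 30, nat_lit 44, nat_lit 100], nat_lit 0)]⟩,
  ⟨nat_lit 72, nat_lit 1, [([nat_lit 86], nat_lit 0), ([nat_lit 72, nat_lit 72], nat_lit 0), ([nat_lit 16, nat_lit 86, nat_lit 30, nat_lit 58], nat_lit 0)]⟩,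
  ⟨nat_lit 86, nat_lit 1, [([nat_lit 72], nat_lit 0), ([nat_lit 44, nat_lit 72, nat_lit 16, nat_lit 58], nat_lit 0), ([nat_lit 16, nat_lit 44, nat_lit 72, nat_lit 30], nat_lit 0), ([nat_lit 58, nat_lit 72, nat_lit 30, nat_lit 44], nat_lit 0), ([nat_lit 100, nat_lit 72, nat_lit 100, nat_lit 16, nat_lit 30, nat_lit 44, nat_lit 100], nat_lit 0), ([nat_lit 100, nat_lit 30, nat_lit 44, nat_lit 100, nat_lit 58, nat_lit 100, nat_lit 44], nat_lit 0)]⟩,
  ⟨nat_lit 100, nat_lit 0, [([nat_lit 100], nat_lit 0), ([nat_lit 44, nat_lit 100, nat_lit 44, nat_lit 100, nat_lit 44], nat_lit 0), ([nat_lit 72, nat_lit 100, nat_lit 16, nat_lit 30, nat_lit 44, nat_lit 100, nat_lit 86], nat_lit 0), ([nat_lit 16, nat_lit 30, nat_lit 44, nat_lit 100, nat_lit 86, nat_lit 100, nat_lit 72], nat_lit 0), ([nat_lit 44, nat_lit 86, nat_lit 100, nat_lit 30, nat_lit 44, nat_lit 100, nat_lit 58], nat_lit 0), ([nat_lit 58, nat_lit 100, nat_lit 44,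 nat_lit 86, nat_lit 100, nat_lit 30, nat_lit 44], nat_lit 0)]⟩]

noncomputable def erots : List (List ℕ × ℕ) := []

noncomputable def gens : List ℕ := [nat_lit 16, nat_lit 30, nat_lit 44, nat_lit 58, nat_lit 72, nat_lit 86, nat_lit 100]

noncomputable def chk : ℕ → Bool := chkRow0 row (nat_lit 20) (nat_lit 0x1f) (nat_lit 0x3e0) (nat_lit 10) (nat_lit 0xf) (nat_lit 0) (nat_lit 0x1f) (nat_lit 5) (nat_lit 0xff) (nat_lit 0xe000) [] cols gens

theorem b0 : allR chk 5 0 = true := by decide +kernel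

noncomputable def T : CT := ⟨row, nat_lit 20, nat_lit 20, nat_lit 0x1f, nat_lit 0x3e0, nat_lit 10, nat_lit 0xf, nat_lit 0, nat_lit 0x1f, nat_lit 5, nat_lit 0xff, nat_lit 0xe000, nat_lit 142, nat_lit 142, nat_lit 0, nat_lit 8, [], cols, erots, gens⟩

theorem all : ∀ c < 20, chk c = true := fun c hc =>
  allR_glue (d := 5) (n := 1) (forall_lt_succ' forall_lt_zero' b0) c (lt_of_lt_of_le hc (by norm_num))

/-- the relators used -/
def R : List (List ℕ) := [[nat_lit 0, nat_lit 0],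
  [nat_lit 1, nat_lit 1],
  [nat_lit 0, nat_lit 1, nat_lit 0, nat_lit 1],
  [nat_lit 2, nat_lit 2],
  [nat_lit 0, nat_lit 2, nat_lit 0, nat_lit 2],
  [nat_lit 1, nat_lit 2, nat_lit 1, nat_lit 2],
  [nat_lit 3, nat_lit 3],
  [nat_lit 0, nat_lit 3, nat_lit 0, nat_lit 3],
  [nat_lit 1, nat_lit 3, nat_lit 1, nat_lit 3],
  [nat_lit 2, nat_lit 3, nat_lit 2, nat_lit 3],
  [nat_lit 4, nat_lit 5],
  [nat_lit 4, nat_lit 4, nat_lit 4],
  [nat_lit 0, nat_lit 2, nat_lit 4, nat_lit 1, nat_lit 5],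
  [nat_lit 0, nat_lit 3, nat_lit 5, nat_lit 2, nat_lit 4],
  [nat_lit 0, nat_lit 5, nat_lit 1, nat_lit 3, nat_lit 4],
  [nat_lit 1, nat_lit 2, nat_lit 5, nat_lit 3, nat_lit 4],
  [nat_lit 6, nat_lit 6],
  [nat_lit 2, nat_lit 6, nat_lit 2, nat_lit 6, nat_lit 2, nat_lit 6],
  [nat_lit 0, nat_lit 1, nat_lit 2, nat_lit 6, nat_lit 5, nat_lit 6, nat_lit 4, nat_lit 6],
  [nat_lit 1, nat_lit 2, nat_lit 6, nat_lit 3, nat_lit 6, nat_lit 2, nat_lit 5, nat_lit 6]]

theorem cert : Cert T (R.map fun r => (r, 0)) ([0, 1, 2, 3, 4, 5].map fun y => (y, 0)) 16 14 [0, 1, 2, 3, 4, 5, 6] :=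
  ⟨by decide +kernel, ⟨[[(0, 0), (2, 0), (7, 0), (18, 0), (4, 0), (12, 0), (14, 0)], [(1, 0), (12, 3), (8, 0), (2, 1), (5, 0), (19, 0)], [(3, 0), (4, 1), (9, 0), (12, 1), (13, 3), (15, 1), (17, 0)], [(6, 0), (7, 1), (13, 1), (14, 3), (15, 3), (19, 3)], [(10, 0), (11, 0), (14, 4)], [(10, 1), (13, 2), (12, 4), (15, 2), (18, 4), (19, 6)], [(16, 0), (17, 1), (18, 5), (18, 7), (19, 4), (19, 2)]], [], by decide +kernel⟩, by decide +kernel, Or.inl ⟨rfl, all⟩⟩

theorem bound {Γ : Type*} [Group Γ] {x : ℕ → Γ} (hR : ∀ r ∈ R, ev x r = 1) {n : ℕ}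
    (h : CardLe x [0, 1, 2, 3, 4, 5] n) : CardLe x [0, 1, 2, 3, 4, 5, 6] (20 * n) :=
  cert.cardLe rfl hR h

end Cfsg.Agent.L0.M22Pc5
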