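import Cfsg.Agent.L0.CosetChain

/-! Generated coset table certificate. -/

set_option autoImplicit false
set_option maxRecDepth 100000

namespace Cfsg.Agent.L0.M22Pc6

noncomputable def t0 : BT := .node (.node (.leaf (nat_lit 0xe4c24b18a4339801124b082331118f08000461c9642214822232490a232c90f4ac10000e0922b89084210822253d66d21a91d040005b940102188c67003c82226b886945810001844651c8a62320aed003882221a10f040000035163003000b0028009002082242010000821310800751140060014004000cb90000000084011004401100440110044010000)) (.leaf (nat_lit 0x2d2c82b4848e507a54dd53955a958c8a0000a8f3a4d5f1293cdae4ab510f20ae082800020a8ab44bccb134dccef35ccdb538e49000122e20a519028d55323648df2774a32200005c451b1353ca1420a152b7128aad8747))) (.leaf (nat_lit 0x13102094a7526c959031c21b08741b21000039d098a38d0971209512624d14e767440000a527218dc92ab49d4209118544b1960c000208cd8d3a38ac93b10ad42a18e916e420000a68842086b208c98b74219492539ab080003cd4015208cc4c65b0951329c0146902000001355bd50a24a8823639c87151199d0800028980123ab49ee429c82325b10456582))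

noncomputable def tree : BT := t0

noncomputable def row : ℕ → ℕ := rowOf tree (nat_lit 3) (nat_lit 7) (nat_lit 142) (nat_lit 0x3fffffffffffffffffffffffffffffffffff)

noncomputable def cols : List Col := [⟨nat_lit 16, nat_lit 1, [([nat_lit 16], nat_lit 0), ([nat_lit 30, nat_lit 16, nat_lit 30], nat_lit 0), ([nat_lit 44, nat_lit 16, nat_lit 44], nat_lit 0), ([nat_lit 58, nat_lit 16, nat_lit 58], nat_lit 0), ([nat_lit 44, nat_lit 72, nat_lit 30, nat_lit 86], nat_lit 0), ([nat_lit 58, nat_lit 86, nat_lit 44, nat_lit 72], nat_lit 0), ([nat_lit 30, nat_lit 44, nat_lit 100, nat_lit 86, nat_lit 100, nat_lit 72, nat_lit 100], nat_lit 0)]⟩,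
  ⟨nat_lit 30, nat_lit 1, [([nat_lit 30], nat_lit 0), ([nat_lit 86, nat_lit 16, nat_lit 44, nat_lit 72], nat_lit 0), ([nat_lit 16, nat_lit 30, nat_lit 16], nat_lit 0), ([nat_lit 114, nat_lit 30, nat_lit 114, nat_lit 30, nat_lit 114], nat_lit 0), ([nat_lit 44, nat_lit 30, nat_lit 44], nat_lit 0), ([nat_lit 58, nat_lit 30, nat_lit 58], nat_lit 0), ([nat_lit 44, nat_lit 100, nat_lit 58, nat_lit 100, nat_lit 44, nat_lit 86, nat_lit 100], nat_lit 0)]⟩,
  ⟨nat_lit 44, nat_lit 1, [([nat_lit 44], nat_lit 0), ([nat_lit 100, nat_lit 44, nat_lit 100, nat_lit 44, nat_lit 100], nat_lit 0), ([nat_lit 16, nat_lit 44, nat_lit 16], nat_lit 0), ([nat_lit 30, nat_lit 44, nat_lit 30], nat_lit 0), ([nat_lit 58, nat_lit 44, nat_lit 58], nat_lit 0), ([nat_lit 72, nat_lit 16, nat_lit 58, nat_lit 86], nat_lit 0)]⟩,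
  ⟨nat_lit 58, nat_lit 1, [([nat_lit 58], nat_lit 0), ([nat_lit 16, nat_lit 58, nat_lit 16], nat_lit 0), ([nat_lit 86, nat_lit 44, nat_lit 72, nat_lit 16], nat_lit 0), ([nat_lit 100, nat_lit 44, nat_lit 86, nat_lit 100, nat_lit 30, nat_lit 44, nat_lit 100], nat_lit 0), ([nat_lit 30, nat_lit 58, nat_lit 30], nat_lit 0), ([nat_lit 72, nat_lit 30, nat_lit 44, nat_lit 86], nat_lit 0)]⟩,
  ⟨nat_lit 72, nat_lit 1, [([nat_lit 86], nat_lit 0), ([nat_lit 72, nat_lit 72], nat_lit 0), ([nat_lit 30, nat_lit 44, nat_lit 86, nat_lit 58], nat_lit 0), ([nat_lit 44, nat_lit 114, nat_lit 16, nat_lit 86, nat_lit 100, nat_lit 72, nat_lit 58, nat_lit 114], nat_lit 0)]⟩,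
  ⟨nat_lit 86, nat_lit 1, [([nat_lit 72], nat_lit 0), ([nat_lit 16, nat_lit 44, nat_lit 72, nat_lit 30], nat_lit 0), ([nat_lit 100, nat_lit 72, nat_lit 100, nat_lit 16, nat_lit 30, nat_lit 44, nat_lit 100], nat_lit 0), ([nat_lit 44, nat_lit 72, nat_lit 16, nat_lit 58], nat_lit 0), ([nat_lit 30, nat_lit 58, nat_lit 72, nat_lit 16], nat_lit 0)]⟩,
  ⟨nat_lit 100, nat_lit 1, [([nat_lit 100], nat_lit 0), ([nat_lit 114, nat_lit 100, nat_lit 114], nat_lit 0), ([nat_lit 86, nat_lit 100, nat_lit 72, nat_lit 100, nat_lit 16, nat_lit 30, nat_lit 44], nat_lit 0), ([nat_lit 44, nat_lit 100, nat_lit 44, nat_lit 100, nat_lit 44], nat_lit 0), ([nat_lit 72, nat_lit 100, nat_lit 16, nat_lit 30, nat_lit 44, nat_lit 100, nat_lit 86], nat_lit 0), ([nat_lit 58, nat_lit 100, nat_lit 44, nat_lit 86, nat_lit 100, nat_lit 30, nat_lit 44], nat_lit 0), ([nat_lit 72, nat_lit 58, nat_lit 114, nat_lit 72, nat_lit 44, nat_lit 114,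 nat_lit 16, nat_lit 86], nat_lit 0)]⟩,
  ⟨nat_lit 114, nat_lit 0, [([nat_lit 114], nat_lit 0), ([nat_lit 72, nat_lit 44, nat_lit 114, nat_lit 16, nat_lit 86, nat_lit 100, nat_lit 72, nat_lit 58], nat_lit 0), ([nat_lit 100, nat_lit 114, nat_lit 100], nat_lit 0), ([nat_lit 16, nat_lit 86, nat_lit 100, nat_lit 72, nat_lit 58, nat_lit 114, nat_lit 72, nat_lit 44], nat_lit 0), ([nat_lit 30, nat_lit 114, nat_lit 30, nat_lit 114, nat_lit 30], nat_lit 0)]⟩]

noncomputable def erots : List (List ℕ × ℕ) := []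

noncomputable def gens : List ℕ := [nat_lit 16, nat_lit 30, nat_lit 44, nat_lit 58, nat_lit 72, nat_lit 86, nat_lit 100, nat_lit 114]

noncomputable def chk : ℕ → Bool := chkRow0 row (nat_lit 21) (nat_lit 0x1f) (nat_lit 0x3e0) (nat_lit 10) (nat_lit 0xf) (nat_lit 0) (nat_lit 0x1f) (nat_lit 5) (nat_lit 0xff) (nat_lit 0xe000) [] cols gens

theorem b0 : allR chk 5 0 = true := by decide +kernel

noncomputable def T : CT := ⟨row, nat_lit 21, nat_lit 21, nat_lit 0x1f, nat_lit 0x3e0, nat_lit 10, nat_lit 0xf, nat_lit 0, nat_lit 0x1f, nat_lit 5, nat_lit 0xff, nat_lit 0xe000, nat_lit 142, nat_lit 142, nat_lit 0, nat_lit 9, [], cols, erots, gens⟩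

theorem all : ∀ c < 21, chk c = true := fun c hc =>
  allR_glue (d := 5) (n := 1) (forall_lt_succ' forall_lt_zero' b0) c (lt_of_lt_of_le hc (by norm_num))

/-- the relators used -/
def R : List (List ℕ) := [[nat_lit 0, nat_lit 0],
  [nat_lit 1, nat_lit 1],
  [nat_lit 0, nat_lit 1, nat_lit 0, nat_lit 1],
  [nat_lit 2, nat_lit 2],
  [nat_lit 0, nat_lit 2, nat_lit 0, nat_lit 2],
  [nat_lit 1, nat_lit 2, nat_lit 1, nat_lit 2],
  [nat_lit 3, nat_lit 3],
  [nat_lit 0, nat_lit 3, nat_lit 0, nat_lit 3],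
  [nat_lit 1, nat_lit 3, nat_lit 1, nat_lit 3],
  [nat_lit 2, nat_lit 3, nat_lit 2, nat_lit 3],
  [nat_lit 4, nat_lit 5],
  [nat_lit 4, nat_lit 4, nat_lit 4],
  [nat_lit 0, nat_lit 2, nat_lit 4, nat_lit 1, nat_lit 5],
  [nat_lit 0, nat_lit 3, nat_lit 5, nat_lit 2, nat_lit 4],
  [nat_lit 0, nat_lit 5, nat_lit 1, nat_lit 3, nat_lit 4],
  [nat_lit 1, nat_lit 2, nat_lit 5, nat_lit 3, nat_lit 4],
  [nat_lit 6, nat_lit 6],
  [nat_lit 2, nat_lit 6, nat_lit 2, nat_lit 6, nat_lit 2, nat_lit 6],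
  [nat_lit 0, nat_lit 1, nat_lit 2, nat_lit 6, nat_lit 5, nat_lit 6, nat_lit 4, nat_lit 6],
  [nat_lit 1, nat_lit 2, nat_lit 6, nat_lit 3, nat_lit 6, nat_lit 2, nat_lit 5, nat_lit 6],
  [nat_lit 7, nat_lit 7],
  [nat_lit 6, nat_lit 7, nat_lit 6, nat_lit 7],
  [nat_lit 1, nat_lit 7, nat_lit 1, nat_lit 7, nat_lit 1, nat_lit 7],
  [nat_lit 0, nat_lit 5, nat_lit 6, nat_lit 4, nat_lit 3, nat_lit 7, nat_lit 4, nat_lit 2, nat_lit 7]]

theorem cert : Cert T (R.map fun r => (r, 0)) ([0, 1, 2, 3, 4, 5, 6].map fun y => (y, 0)) 16 14 [0, 1, 2, 3, 4, 5, 6, 7] :=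
  ⟨by decide +kernel, ⟨[[(0, 0), (2, 0), (4, 0), (7, 0), (12, 0), (13, 0), (18, 0)], [(1, 0), (12, 3), (2, 1), (22, 0), (5, 0), (8, 0), (19, 0)], [(3, 0), (17, 0), (4, 1), (5, 1), (9, 0), (13, 3)], [(6, 0), (7, 1), (13, 1), (19, 3), (8, 1), (15, 3)], [(10, 0), (11, 0), (15, 4), (23, 6)], [(10, 1), (12, 4), (18, 4), (13, 2), (14, 1)], [(16, 0), (21, 0), (18, 3), (17, 1), (18, 5), (19, 2), (23, 2)], [(20, 0), (23, 5), (21, 1), (23, 8), (22, 1)]], [], by decide +kernel⟩, by decide +kernel, Or.inl ⟨rfl, all⟩⟩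

theorem bound {Γ : Type*} [Group Γ] {x : ℕ → Γ} (hR : ∀ r ∈ R, ev x r = 1) {n : ℕ}
    (h : CardLe x [0, 1, 2, 3, 4, 5, 6] n) : CardLe x [0, 1, 2, 3, 4, 5, 6, 7] (21 * n) :=
  cert.cardLe rfl hR h

end Cfsg.Agent.L0.M22Pc6
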