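import Cfsg.Agent.L0.CosetChain

/-! Generated coset table certificate. -/

set_option autoImplicit false
set_option maxRecDepth 100000

namespace Cfsg.Agent.L0.M22Pc7

noncomputable def t0 : BT := .node (.node (.leaf (nat_lit 0x445868a09029126204645a88d5916c2360d6c44225155114f2352a49481191f0561c41ad9e8a0f7ab860022440cc8400102046493c83532e1186560cae7a08a39169271c003c811906963e2269c0039102000d0018002c00500092046c404a10c81118a30010c3980038006000a00113c84810800361044309051404271c5010a031188000021002200440088011002200440088010000)) (.leaf (nat_lit 0x123b146c2058aacd208bc5634ec6bd9a2b56a592ad26a06d5114912f0349e8d390d8102ca20b46e240ac9ba93b447289050dca2bd467e95e54aeccd67902a54624b594e99a333526e9ceb524d492bb244a467c095a90295398e12c9a753d4139437624098a1b125354626346528ca718d45))) (.leaf (nat_lit 0x74d4ecd49159ad5242440990e391d553110f4a4818979c12734d44d3893a9025444c87361710d921024345c6cbc9b51b6526ea4c9cd9947919a95261326a48361024245906a58f511ef8b632490915800b1024309ac8348f91948002b130689ac00a2a104356472c812318820e4a11e1e8c94812c700266d38947a1482048483502342e1b06745da47358a2998700244734812184583e3))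

noncomputable def tree : BT := t0

noncomputable def row : ℕ → ℕ := rowOf tree (nat_lit 3) (nat_lit 7) (nat_lit 151) (nat_lit 0x7fffffffffffffffffffffffffffffffffffff)

noncomputable def cols : List Col := [⟨nat_lit 16, nat_lit 1, [([nat_lit 16], nat_lit 0), ([nat_lit 31, nat_lit 16, nat_lit 31], nat_lit 0), ([nat_lit 46, nat_lit 16, nat_lit 46], nat_lit 0), ([nat_lit 61, nat_lit 16, nat_lit 61], nat_lit 0), ([nat_lit 46, nat_lit 76, nat_lit 31, nat_lit 91], nat_lit 0), ([nat_lit 61, nat_lit 91, nat_lit 46, nat_lit 76], nat_lit 0), ([nat_lit 31, nat_lit 136, nat_lit 61, nat_lit 136], nat_lit 0), ([nat_lit 31, nat_lit 46, nat_lit 106, nat_lit 91, nat_lit 106, nat_lit 76, nat_lit 106], nat_lit 0)]⟩,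
  ⟨nat_lit 31, nat_lit 1, [([nat_lit 31], nat_lit 0), ([nat_lit 91, nat_lit 16, nat_lit 46, nat_lit 76], nat_lit 0), ([nat_lit 16, nat_lit 31, nat_lit 16], nat_lit 0), ([nat_lit 121, nat_lit 31, nat_lit 121, nat_lit 31, nat_lit 121], nat_lit 0), ([nat_lit 46, nat_lit 31, nat_lit 46], nat_lit 0), ([nat_lit 61, nat_lit 31, nat_lit 61], nat_lit 0), ([nat_lit 136, nat_lit 31, nat_lit 136], nat_lit 0), ([nat_lit 46, nat_lit 106, nat_lit 61, nat_lit 106, nat_lit 46, nat_lit 91, nat_lit 106], nat_lit 0)]⟩,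
  ⟨nat_lit 46, nat_lit 1, [([nat_lit 46], nat_lit 0), ([nat_lit 106, nat_lit 46, nat_lit 106, nat_lit 46, nat_lit 106], nat_lit 0), ([nat_lit 16, nat_lit 46, nat_lit 16], nat_lit 0), ([nat_lit 31, nat_lit 46, nat_lit 31], nat_lit 0), ([nat_lit 61, nat_lit 46, nat_lit 61], nat_lit 0), ([nat_lit 76, nat_lit 31, nat_lit 91, nat_lit 16], nat_lit 0), ([nat_lit 76, nat_lit 16, nat_lit 61, nat_lit 91], nat_lit 0)]⟩,
  ⟨nat_lit 61, nat_lit 1, [([nat_lit 61], nat_lit 0), ([nat_lit 16, nat_lit 61, nat_lit 16], nat_lit 0), ([nat_lit 91, nat_lit 46, nat_lit 76, nat_lit 16], nat_lit 0), ([nat_lit 106, nat_lit 46, nat_lit 91, nat_lit 106, nat_lit 31, nat_lit 46, nat_lit 106], nat_lit 0), ([nat_lit 31, nat_lit 61, nat_lit 31], nat_lit 0), ([nat_lit 76, nat_lit 31, nat_lit 46, nat_lit 91], nat_lit 0), ([nat_lit 136, nat_lit 16, nat_lit 31, nat_lit 136], nat_lit 0)]⟩,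
  ⟨nat_lit 76, nat_lit 1, [([nat_lit 91], nat_lit 0), ([nat_lit 76, nat_lit 76], nat_lit 0), ([nat_lit 136, nat_lit 16, nat_lit 106, nat_lit 136, nat_lit 61, nat_lit 106], nat_lit 0), ([nat_lit 31, nat_lit 46, nat_lit 91, nat_lit 61], nat_lit 0), ([nat_lit 46, nat_lit 121, nat_lit 16, nat_lit 91, nat_lit 106, nat_lit 76, nat_lit 61, nat_lit 121], nat_lit 0)]⟩,
  ⟨nat_lit 91, nat_lit 1, [([nat_lit 76], nat_lit 0), ([nat_lit 16, nat_lit 46, nat_lit 76, nat_lit 31], nat_lit 0), ([nat_lit 46, nat_lit 76, nat_lit 16, nat_lit 61], nat_lit 0), ([nat_lit 106, nat_lit 76, nat_lit 106, nat_lit 16, nat_lit 31, nat_lit 46, nat_lit 106], nat_lit 0), ([nat_lit 31, nat_lit 61, nat_lit 76, nat_lit 16], nat_lit 0)]⟩,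
  ⟨nat_lit 106, nat_lit 1, [([nat_lit 106], nat_lit 0), ([nat_lit 121, nat_lit 106, nat_lit 121], nat_lit 0), ([nat_lit 91, nat_lit 106, nat_lit 76, nat_lit 106, nat_lit 16, nat_lit 31, nat_lit 46], nat_lit 0), ([nat_lit 46, nat_lit 106, nat_lit 46, nat_lit 106, nat_lit 46], nat_lit 0), ([nat_lit 136, nat_lit 61, nat_lit 106, nat_lit 76, nat_lit 136, nat_lit 16], nat_lit 0), ([nat_lit 76, nat_lit 106, nat_lit 16, nat_lit 31, nat_lit 46, nat_lit 106, nat_lit 91], nat_lit 0), ([nat_lit 61, nat_lit 106, nat_lit 46, nat_lit 91, nat_lit 106, nat_lit 31, nat_lit 46], nat_lit 0), ([nat_lit 76, nat_lit 61, nat_lit 121, nat_lit 76, nat_lit 46, nat_lit 121, nat_lit 16, nat_lit 91], nat_lit 0)]⟩,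
  ⟨nat_lit 121, nat_lit 1, [([nat_lit 121], nat_lit 0), ([nat_lit 106, nat_lit 121, nat_lit 106], nat_lit 0), ([nat_lit 76, nat_lit 46, nat_lit 121, nat_lit 16, nat_lit 91, nat_lit 106, nat_lit 76, nat_lit 61], nat_lit 0), ([nat_lit 16, nat_lit 91, nat_lit 106, nat_lit 76, nat_lit 61, nat_lit 121, nat_lit 76, nat_lit 46], nat_lit 0), ([nat_lit 31, nat_lit 121, nat_lit 31, nat_lit 121, nat_lit 31], nat_lit 0), ([nat_lit 136, nat_lit 121, nat_lit 136, nat_lit 121, nat_lit 136], nat_lit 0)]⟩,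
  ⟨nat_lit 136, nat_lit 0, [([nat_lit 136], nat_lit 0), ([nat_lit 31, nat_lit 136, nat_lit 31], nat_lit 0), ([nat_lit 61, nat_lit 106, nat_lit 76, nat_lit 136, nat_lit 16, nat_lit 106], nat_lit 0), ([nat_lit 121, nat_lit 136, nat_lit 121, nat_lit 136, nat_lit 121], nat_lit 0), ([nat_lit 61, nat_lit 136, nat_lit 16, nat_lit 31], nat_lit 0), ([nat_lit 16, nat_lit 31, nat_lit 136, nat_lit 61], nat_lit 0), ([nat_lit 16, nat_lit 106, nat_lit 136, nat_lit 61, nat_lit 106, nat_lit 76], nat_lit 0)]⟩]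

noncomputable def erots : List (List ℕ × ℕ) := []

noncomputable def gens : List ℕ := [nat_lit 16, nat_lit 31, nat_lit 46, nat_lit 61, nat_lit 76, nat_lit 91, nat_lit 106, nat_lit 121, nat_lit 136]

noncomputable def chk : ℕ → Bool := chkRow0 row (nat_lit 22) (nat_lit 0x1f) (nat_lit 0x7e0) (nat_lit 11) (nat_lit 0xf) (nat_lit 0) (nat_lit 0x1f) (nat_lit 5) (nat_lit 0xff) (nat_lit 0xe000) [] cols gens

theorem b0 : allR chk 5 0 = true := by decide +kernel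

noncomputable def T : CT := ⟨row, nat_lit 22, nat_lit 22, nat_lit 0x1f, nat_lit 0x7e0, nat_lit 11, nat_lit 0xf, nat_lit 0, nat_lit 0x1f, nat_lit 5, nat_lit 0xff, nat_lit 0xe000, nat_lit 151, nat_lit 151, nat_lit 0, nat_lit 9, [], cols, erots, gens⟩

theorem all : ∀ c < 22, chk c = true := fun c hc =>
  allR_glue (d := 5) (n := 1) (forall_lt_succ' forall_lt_zero' b0) c (lt_of_lt_of_le hc (by norm_num))

/-- the relators used -/
def R : List (List ℕ) := [[nat_lit 0, nat_lit 0],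
  [nat_lit 1, nat_lit 1],
  [nat_lit 0, nat_lit 1, nat_lit 0, nat_lit 1],
  [nat_lit 2, nat_lit 2],
  [nat_lit 0, nat_lit 2, nat_lit 0, nat_lit 2],
  [nat_lit 1, nat_lit 2, nat_lit 1, nat_lit 2],
  [nat_lit 3, nat_lit 3],
  [nat_lit 0, nat_lit 3, nat_lit 0, nat_lit 3],
  [nat_lit 1, nat_lit 3, nat_lit 1, nat_lit 3],
  [nat_lit 2, nat_lit 3, nat_lit 2, nat_lit 3],
  [nat_lit 4, nat_lit 5],
  [nat_lit 4, nat_lit 4, nat_lit 4],
  [nat_lit 0, nat_lit 2, nat_lit 4, nat_lit 1, nat_lit 5],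
  [nat_lit 0, nat_lit 3, nat_lit 5, nat_lit 2, nat_lit 4],
  [nat_lit 0, nat_lit 5, nat_lit 1, nat_lit 3, nat_lit 4],
  [nat_lit 1, nat_lit 2, nat_lit 5, nat_lit 3, nat_lit 4],
  [nat_lit 6, nat_lit 6],
  [nat_lit 2, nat_lit 6, nat_lit 2, nat_lit 6, nat_lit 2, nat_lit 6],
  [nat_lit 0, nat_lit 1, nat_lit 2, nat_lit 6, nat_lit 5, nat_lit 6, nat_lit 4, nat_lit 6],
  [nat_lit 1, nat_lit 2, nat_lit 6, nat_lit 3, nat_lit 6, nat_lit 2, nat_lit 5, nat_lit 6],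
  [nat_lit 7, nat_lit 7],
  [nat_lit 6, nat_lit 7, nat_lit 6, nat_lit 7],
  [nat_lit 1, nat_lit 7, nat_lit 1, nat_lit 7, nat_lit 1, nat_lit 7],
  [nat_lit 0, nat_lit 5, nat_lit 6, nat_lit 4, nat_lit 3, nat_lit 7, nat_lit 4, nat_lit 2, nat_lit 7],
  [nat_lit 8, nat_lit 8],
  [nat_lit 1, nat_lit 8, nat_lit 1, nat_lit 8],
  [nat_lit 0, nat_lit 1, nat_lit 8, nat_lit 3, nat_lit 8],
  [nat_lit 7, nat_lit 8, nat_lit 7, nat_lit 8, nat_lit 7, nat_lit 8],
  [nat_lit 0, nat_lit 6, nat_lit 8, nat_lit 3, nat_lit 6, nat_lit 4, nat_lit 8]]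

theorem cert : Cert T (R.map fun r => (r, 0)) ([0, 1, 2, 3, 4, 5, 6, 7].map fun y => (y, 0)) 16 15 [0, 1, 2, 3, 4, 5, 6, 7, 8] :=
  ⟨by decide +kernel, ⟨[[(0, 0), (2, 0), (4, 0), (7, 0), (12, 0), (13, 0), (26, 0), (18, 0)], [(1, 0), (12, 3), (2, 1), (22, 0), (5, 0), (8, 0), (25, 0), (19, 0)], [(3, 0), (17, 0), (4, 1), (5, 1), (9, 0), (12, 1), (13, 3)], [(6, 0), (7, 1), (13, 1), (19, 3), (8, 1), (15, 3), (26, 3)], [(10, 0), (11, 0), (28, 5), (15, 4), (23, 6)], [(10, 1), (12, 4), (13, 2), (18, 4), (14, 1)], [(16, 0), (21, 0), (18, 3), (17, 1), (28, 1), (18, 5), (19, 2), (23, 2)], [(20, 0), (21, 1), (23, 5), (23, 8), (22, 1), (27, 0)], [(24, 0), (25, 1), (28, 2), (27, 1), (26, 2), (26, 4), (28, 6)]], [], by decide +kernel⟩, by decide +kernel, Or.inl ⟨rfl, all⟩⟩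

theorem bound {Γ : Type*} [Group Γ] {x : ℕ → Γ} (hR : ∀ r ∈ R, ev x r = 1) {n : ℕ}
    (h : CardLe x [0, 1, 2, 3, 4, 5, 6, 7] n) : CardLe x [0, 1, 2, 3, 4, 5, 6, 7, 8] (22 * n) :=
  cert.cardLe rfl hR h

end Cfsg.Agent.L0.M22Pc7
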