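import Cfsg.Agent.L0.TabPres
import Cfsg.Agent.H9.OutM22
import Cfsg.Agent.L0.M22.Pc0
import Cfsg.Agent.L0.M22.Pc1
import Cfsg.Agent.L0.M22.Pc2
import Cfsg.Agent.L0.M22.Pc3
import Cfsg.Agent.L0.M22.Pc4
import Cfsg.Agent.L0.M22.Pc5
import Cfsg.Agent.L0.M22.Pc6
import Cfsg.Agent.L0.M22.Pc7

/-! A presentation on strong generators. -/

set_option autoImplicit false
set_option maxRecDepth 100000

namespace Cfsg.Agent.L0.M22Pres

/-- the generators as words -/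
def W : List (List ℕ) := [[nat_lit 9, nat_lit 3, nat_lit 1, nat_lit 4],
  [nat_lit 6, nat_lit 4, nat_lit 5, nat_lit 8],
  [nat_lit 1, nat_lit 10, nat_lit 11, nat_lit 2],
  [nat_lit 2, nat_lit 6, nat_lit 7, nat_lit 3, nat_lit 16],
  [nat_lit 8, nat_lit 3, nat_lit 7, nat_lit 1],
  [nat_lit 17, nat_lit 3, nat_lit 16, nat_lit 9],
  [nat_lit 6, nat_lit 12, nat_lit 13, nat_lit 2, nat_lit 13],
  [nat_lit 10, nat_lit 4, nat_lit 14, nat_lit 5, nat_lit 8],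
  [nat_lit 2, nat_lit 16, nat_lit 17, nat_lit 15, nat_lit 0]]

/-- the relators -/
def R : List (List ℕ) := [[nat_lit 0, nat_lit 0],
  [nat_lit 1, nat_lit 1],
  [nat_lit 0, nat_lit 1, nat_lit 0, nat_lit 1],
  [nat_lit 2, nat_lit 2],
  [nat_lit 0, nat_lit 2, nat_lit 0, nat_lit 2],
  [nat_lit 1, nat_lit 2, nat_lit 1, nat_lit 2],
  [nat_lit 3, nat_lit 3],
  [nat_lit 0, nat_lit 3, nat_lit 0, nat_lit 3],
  [nat_lit 1, nat_lit 3, nat_lit 1, nat_lit 3],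
  [nat_lit 2, nat_lit 3, nat_lit 2, nat_lit 3],
  [nat_lit 4, nat_lit 5],
  [nat_lit 5, nat_lit 4],
  [nat_lit 4, nat_lit 4, nat_lit 4],
  [nat_lit 0, nat_lit 2, nat_lit 4, nat_lit 1, nat_lit 5],
  [nat_lit 0, nat_lit 3, nat_lit 5, nat_lit 2, nat_lit 4],
  [nat_lit 0, nat_lit 5, nat_lit 1, nat_lit 3, nat_lit 4],
  [nat_lit 1, nat_lit 2, nat_lit 5, nat_lit 3, nat_lit 4],
  [nat_lit 6, nat_lit 6],
  [nat_lit 2, nat_lit 6, nat_lit 2, nat_lit 6, nat_lit 2, nat_lit 6],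
  [nat_lit 0, nat_lit 1, nat_lit 2, nat_lit 6, nat_lit 5, nat_lit 6, nat_lit 4, nat_lit 6],
  [nat_lit 1, nat_lit 2, nat_lit 6, nat_lit 3, nat_lit 6, nat_lit 2, nat_lit 5, nat_lit 6],
  [nat_lit 7, nat_lit 7],
  [nat_lit 6, nat_lit 7, nat_lit 6, nat_lit 7],
  [nat_lit 1, nat_lit 7, nat_lit 1, nat_lit 7, nat_lit 1, nat_lit 7],
  [nat_lit 0, nat_lit 5, nat_lit 6, nat_lit 4, nat_lit 3, nat_lit 7, nat_lit 4, nat_lit 2, nat_lit 7],
  [nat_lit 8, nat_lit 8],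
  [nat_lit 1, nat_lit 8, nat_lit 1, nat_lit 8],
  [nat_lit 0, nat_lit 1, nat_lit 8, nat_lit 3, nat_lit 8],
  [nat_lit 7, nat_lit 8, nat_lit 7, nat_lit 8, nat_lit 7, nat_lit 8],
  [nat_lit 0, nat_lit 6, nat_lit 8, nat_lit 3, nat_lit 6, nat_lit 4, nat_lit 8]]

/-- the stabiliser chain -/
noncomputable def lv : List (List (List ℕ) × ℕ × List (ℕ × List ℕ)) := [([[nat_lit 0], [nat_lit 1], [nat_lit 2], [nat_lit 3], [nat_lit 4], [nat_lit 5], [nat_lit 6], [nat_lit 7], [nat_lit 8]], nat_lit 1, [(nat_lit 1, []), (nat_lit 2, [nat_lit 8]), (nat_lit 3, [nat_lit 7, nat_lit 3, nat_lit 0, nat_lit 7, nat_lit 8]), (nat_lit 4, [nat_lit 7, nat_lit 0, nat_lit 7, nat_lit 8]), (nat_lit 5, [nat_lit 6, nat_lit 2, nat_lit 7, nat_lit 8]), (nat_lit 6, [nat_lit 2, nat_lit 7, nat_lit 8]), (nat_lit 7, [nat_lit 2, nat_lit 0, nat_lit 7, nat_lit 8]), (nat_lit 8, [nat_lit 1, nat_lit 0, nat_lit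 7, nat_lit 8]), (nat_lit 9, [nat_lit 4, nat_lit 0, nat_lit 7, nat_lit 8]), (nat_lit 10, [nat_lit 2, nat_lit 1, nat_lit 7, nat_lit 8]), (nat_lit 11, [nat_lit 3, nat_lit 7, nat_lit 8]), (nat_lit 12, [nat_lit 3, nat_lit 0, nat_lit 7, nat_lit 8]), (nat_lit 13, [nat_lit 0, nat_lit 7, nat_lit 8]), (nat_lit 14, [nat_lit 6, nat_lit 5, nat_lit 0, nat_lit 7, nat_lit 8]), (nat_lit 15, [nat_lit 3, nat_lit 2, nat_lit 7, nat_lit 8]), (nat_lit 16, [nat_lit 7, nat_lit 8]), (nat_lit 17, [nat_lit 6, nat_lit 2, nat_lit 0, nat_lit 7, nat_lit 8]), (nat_lit 18, [nat_lit 1, nat_lit 7, nat_lit 8]), (nat_lit 19, [nat_lit 5, nat_lit 0, nat_lit 7, nat_lit 8]), (nat_lit 20, [nat_lit 4, nat_lit 7, nat_lit 8]), (nat_lit 21, [nat_lit 8, nat_lit 4, nat_lit 0, nat_lit 7, nat_lit 8]), (nat_lit 22, [nat_lit 3, nat_lit 1, nat_lit 0, nat_lit 7, nat_lit 8])]),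
  ([[nat_lit 0], [nat_lit 1], [nat_lit 2], [nat_lit 3], [nat_lit 4], [nat_lit 5], [nat_lit 6], [nat_lit 7]], nat_lit 2, [(nat_lit 2, []), (nat_lit 3, [nat_lit 7, nat_lit 3, nat_lit 0, nat_lit 7]), (nat_lit 4, [nat_lit 7, nat_lit 0, nat_lit 7]), (nat_lit 5, [nat_lit 6, nat_lit 2, nat_lit 7]), (nat_lit 6, [nat_lit 2, nat_lit 7]), (nat_lit 7, [nat_lit 2, nat_lit 0, nat_lit 7]), (nat_lit 8, [nat_lit 1, nat_lit 0, nat_lit 7]), (nat_lit 9, [nat_lit 4, nat_lit 0, nat_lit 7]), (nat_lit 10, [nat_lit 2, nat_lit 1, nat_lit 7]), (nat_lit 11, [nat_lit 3, nat_lit 7]), (nat_lit 12, [nat_lit 3, nat_lit 0, nat_lit 7]), (nat_lit 13, [nat_lit 0, nat_lit 7]), (nat_lit 14, [nat_lit 6, nat_lit 5, nat_lit 0, nat_lit 7]), (nat_lit 15, [nat_lit 3, nat_lit 2, nat_lit 7]), (nat_lit 16, [nat_lit 7]), (nat_lit 17, [nat_lit 6, nat_lit 2, nat_lit 0, nat_lit 7]), (nat_lit 18, [nat_lit 1,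 nat_lit 7]), (nat_lit 19, [nat_lit 5, nat_lit 0, nat_lit 7]), (nat_lit 20, [nat_lit 4, nat_lit 7]), (nat_lit 21, [nat_lit 0, nat_lit 5, nat_lit 0, nat_lit 7]), (nat_lit 22, [nat_lit 3, nat_lit 1, nat_lit 0, nat_lit 7])]),
  ([[nat_lit 0], [nat_lit 1], [nat_lit 2], [nat_lit 3], [nat_lit 4], [nat_lit 5], [nat_lit 6]], nat_lit 3, [(nat_lit 3, []), (nat_lit 4, [nat_lit 2, nat_lit 6]), (nat_lit 5, [nat_lit 5, nat_lit 6, nat_lit 0, nat_lit 6]), (nat_lit 6, [nat_lit 3, nat_lit 1, nat_lit 6]), (nat_lit 7, [nat_lit 5, nat_lit 2, nat_lit 6]), (nat_lit 8, [nat_lit 3, nat_lit 4, nat_lit 6]), (nat_lit 9, [nat_lit 3, nat_lit 0, nat_lit 6]), (nat_lit 10, [nat_lit 3, nat_lit 6]), (nat_lit 11, [nat_lit 2, nat_lit 1, nat_lit 6]), (nat_lit 12, [nat_lit 6, nat_lit 1, nat_lit 6]), (nat_lit 13, [nat_lit 4, nat_lit 0, nat_lit 6]), (nat_lit 14, [nat_lit 6, nat_lit 0, nat_lit 6]),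 (nat_lit 15, [nat_lit 1, nat_lit 6]), (nat_lit 16, [nat_lit 5, nat_lit 1, nat_lit 0, nat_lit 6]), (nat_lit 17, [nat_lit 4, nat_lit 6, nat_lit 0, nat_lit 6]), (nat_lit 18, [nat_lit 3, nat_lit 2, nat_lit 6]), (nat_lit 19, [nat_lit 0, nat_lit 6]), (nat_lit 20, [nat_lit 1, nat_lit 0, nat_lit 6]), (nat_lit 21, [nat_lit 6]), (nat_lit 22, [nat_lit 4, nat_lit 6])]),
  ([[nat_lit 0], [nat_lit 1], [nat_lit 2], [nat_lit 3], [nat_lit 4], [nat_lit 5]], nat_lit 5, [(nat_lit 5, []), (nat_lit 14, [nat_lit 4]), (nat_lit 17, [nat_lit 5])]),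
  ([[nat_lit 0], [nat_lit 1], [nat_lit 2], [nat_lit 3]], nat_lit 4, [(nat_lit 4, []), (nat_lit 6, [nat_lit 3, nat_lit 2, nat_lit 1]), (nat_lit 7, [nat_lit 3, nat_lit 2, nat_lit 1, nat_lit 0]), (nat_lit 8, [nat_lit 3, nat_lit 0]), (nat_lit 9, [nat_lit 3, nat_lit 2, nat_lit 0]), (nat_lit 10, [nat_lit 3, nat_lit 2]), (nat_lit 11, [nat_lit 1]), (nat_lit 12, [nat_lit 1, nat_lit 0]), (nat_lit 13, [nat_lit 3, nat_lit 1, nat_lit 0]), (nat_lit 15, [nat_lit 2, nat_lit 1]), (nat_lit 16, [nat_lit 3, nat_lit 1]), (nat_lit 18, [nat_lit 3]), (nat_lit 19, [nat_lit 2, nat_lit 0]), (nat_lit 20, [nat_lit 2, nat_lit 1, nat_lit 0]), (nat_lit 21, [nat_lit 2]), (nat_lit 22, [nat_lit 0])])]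

theorem card_le : CardLe (PG.gen 9 R) (List.range 9) 443520 :=
  M22Pc7.bound (rel_sub (R := R) (fun _ => PG.rel) (by decide +kernel))
    (M22Pc6.bound (rel_sub (R := R) (fun _ => PG.rel) (by decide +kernel))
    (M22Pc5.bound (rel_sub (R := R) (fun _ => PG.rel) (by decide +kernel))
    (M22Pc4.bound (rel_sub (R := R) (fun _ => PG.rel) (by decide +kernel))
    (M22Pc3.bound (rel_sub (R := R) (fun _ => PG.rel) (by decide +kernel))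
    (M22Pc2.bound (rel_sub (R := R) (fun _ => PG.rel) (by decide +kernel))
    (M22Pc1.bound (rel_sub (R := R) (fun _ => PG.rel) (by decide +kernel))
    (M22Pc0.bound (rel_sub (R := R) (fun _ => PG.rel) (by decide +kernel))
    (cardLe_nil _))))))))

theorem isPres {G : Type*} [Group G] [Finite G] {A : RAct G 24} {g : ℕ → G} (hb : A.IsBase H9.OutM22.B)
    (h : A.Tab g 19 H9.OutM22.T) (ho : Nat.card G = 443520) : IsPres (dG g W) 9 R :=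
  isPres_of_tab hb h ho (by decide +kernel) (by decide +kernel) (by decide +kernel) (lv := lv)
    (by decide +kernel) (by decide +kernel) card_le

end Cfsg.Agent.L0.M22Pres
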